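import Cfsg.Agent.Lib.Helper31.CTI.Defs

/-!
# Project CTI (S4064, helper31's sheet): module `[BLK-HALL]` `hall_of_cc` (hedge by helper89)

A subgroup containing the centralizers of its nonidentity elements is a Hall subgroup.
-/

set_option autoImplicit false

namespace Cfsg.Agent.Lib.Helper31.CTI

open Cfsg

variable {G : Type*} [Group G]

/-- [BLK-HALL] A subgroup containing the centralizers of its nonidentity elements is a Hall
subgroup. (Mathlib only.) -/
theorem hall_of_cc [Finite G] (M : Subgroup G)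
    (hcc : ∀ m ∈ M, m ≠ 1 → Subgroup.centralizer ({m} : Set G) ≤ M) :
    (Nat.card M).Coprime M.index := by
  by_contra hnc
  obtain ⟨p, hp, hpM, hpI⟩ := Nat.Prime.not_coprime_iff_dvd.mp hnc
  haveI : Fact p.Prime := ⟨hp⟩
  -- an element of order `p` in `M`
  obtain ⟨m, hm⟩ := exists_prime_orderOf_dvd_card' (G := M) p hpM
  have hm1 : m ≠ 1 := by
    rintro rfl
    rw [orderOf_one] at hm
    exact hp.one_lt.ne hm
  have hmG1 : (m : G) ≠ 1 := fun h => hm1 (Subtype.ext h)
  have hordG : orderOf (m : G) = p := by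
    rw [Subgroup.orderOf_coe]; exact hm
  -- `⟨m⟩` is a `p`-subgroup of `G`, inside a Sylow `p`-subgroup `Q`
  have hpg : IsPGroup p (Subgroup.zpowers (m : G)) := by
    apply IsPGroup.of_card (n := 1)
    rw [Nat.card_zpowers, hordG, pow_one]
  obtain ⟨Q, hQ⟩ := hpg.exists_le_sylow
  have hmQ : (m : G) ∈ (Q : Subgroup G) := hQ (Subgroup.mem_zpowers _)
  haveI : Nontrivial (Q : Subgroup G) :=
    ⟨⟨⟨(m : G), hmQ⟩, 1, fun h => hmG1 (congrArg Subtype.val h)⟩⟩
  -- a nonidentity central element `z` of `Q`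
  haveI := Q.isPGroup'.center_nontrivial
  obtain ⟨z, hz1⟩ := exists_ne (1 : Subgroup.center (Q : Subgroup G))
  have hzc : ∀ y : (Q : Subgroup G), y * z.1 = z.1 * y := fun y =>
    (Subgroup.mem_center_iff.mp z.2 y)
  have hzG1 : ((z.1 : (Q : Subgroup G)) : G) ≠ 1 := by
    intro h
    apply hz1
    apply Subtype.ext
    apply Subtype.ext
    exact h
  -- `z ∈ C(m) ≤ M`
  have hzM : ((z.1 : (Q : Subgroup G)) : G) ∈ M := by
    apply hcc (m : G) m.2 hmG1
    rw [Subgroup.mem_centralizer_iff]
    intro g hg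
    rw [Set.mem_singleton_iff] at hg
    subst hg
    have := hzc ⟨(m : G), hmQ⟩
    exact congrArg Subtype.val this
  -- `Q ≤ C(z) ≤ M`
  have hQM : (Q : Subgroup G) ≤ M := by
    intro y hy
    apply hcc _ hzM hzG1
    rw [Subgroup.mem_centralizer_iff]
    intro g hg
    rw [Set.mem_singleton_iff] at hg
    subst hg
    have := hzc ⟨y, hy⟩
    exact (congrArg Subtype.val this).symm
  -- count
  have hdvd : Nat.card (Q : Subgroup G) ∣ Nat.card M := Subgroup.card_dvd_of_le hQM
  rw [Sylow.card_eq_multiplicity] at hdvd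
  have hGM : Nat.card G = Nat.card M * M.index := (Subgroup.card_mul_index M).symm
  have hM0 : Nat.card M ≠ 0 := Nat.card_pos.ne'
  have hI0 : M.index ≠ 0 := Subgroup.index_ne_zero_of_finite
  have h1 : (Nat.card G).factorization p = (Nat.card M).factorization p + M.index.factorization p := by
    rw [hGM, Nat.factorization_mul hM0 hI0]; rfl
  have h2 : 1 ≤ M.index.factorization p :=
    (hp.dvd_iff_one_le_factorization hI0).mp hpI
  have h3 : (Nat.card G).factorization p ≤ (Nat.card M).factorization p :=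
    (hp.pow_dvd_iff_le_factorization hM0).mp hdvd
  omega

end Cfsg.Agent.Lib.Helper31.CTI
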