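import Cfsg.Agent.Lib.Helper31.CTI.Defs

/-!
# Project CTI (S4064, helper31's sheet): module `[A-SYL]` `exists_normal_sylow` in `_of` form (hedge by helper89)

A nontrivial nilpotent normal subgroup forces a nontrivial normal Sylow subgroup, given `[BLOCKS]` as a hypothesis.
-/

set_option autoImplicit false

namespace Cfsg.Agent.Lib.Helper89.CTI

open Cfsg Cfsg.Agent.Lib.Helper31.CTI

variable {G : Type*} [Group G]

/-- [A-SYL] in `_of` form: `hblocks` is the exact statement of `[BLOCKS]` `exists_niceBlock` (without the `IsCTI` hypothesis). -/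
theorem exists_normal_sylow_of [Finite G]
    (hblocks : ∀ (p : ℕ) [Fact p.Prime] (P : Sylow p G), (P : Subgroup G) ≠ ⊥ →
      ∃ M : Subgroup G, IsNiceBlock M ∧ (P : Subgroup G) ≤ M)
    (K : Subgroup G) (hKn : K.Normal) (hKnil : Group.IsNilpotent K) (hK : K ≠ ⊥) :
    ∃ (p : ℕ) (_ : Fact p.Prime) (P : Sylow p G), (P : Subgroup G) ≠ ⊥ ∧ (P : Subgroup G).Normal := by
  have hK1 : Nat.card K ≠ 1 := by
    intro h
    exact hK (Subgroup.card_eq_one.mp h)
  obtain ⟨p, hp, hpK⟩ := Nat.exists_prime_and_dvd hK1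
  haveI : Fact p.Prime := ⟨hp⟩
  -- the Sylow `p`-subgroup of `K` is characteristic in `K`, so normal in `G`
  obtain ⟨PK⟩ : Nonempty (Sylow p K) := inferInstance
  haveI hPKn : (PK : Subgroup K).Normal := inferInstance
  haveI hPKc : (PK : Subgroup K).Characteristic := Sylow.characteristic_of_normal PK hPKn
  have hRn : ((PK : Subgroup K).map K.subtype).Normal := ConjAct.normal_of_characteristic_of_normal
  have hRp : IsPGroup p ((PK : Subgroup K).map K.subtype) := PK.isPGroup'.map _
  have hPK1 : (PK : Subgroup K) ≠ ⊥ := PK.ne_bot_of_dvd_card hpK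
  have hR1 : (PK : Subgroup K).map K.subtype ≠ ⊥ := by
    intro h
    apply hPK1
    exact (Subgroup.map_eq_bot_iff_of_injective _ K.subtype_injective).mp h
  obtain ⟨P, hRP⟩ := hRp.exists_le_sylow
  have hP1 : (P : Subgroup G) ≠ ⊥ := by
    intro h
    rw [h, le_bot_iff] at hRP
    exact hR1 hRP
  obtain ⟨M, hM, hPM⟩ := hblocks p P hP1
  obtain ⟨x, hxR, hx1⟩ := (Subgroup.bot_or_exists_ne_one _).resolve_left hR1
  -- `M` is normal, as it is TI and contains the normal subgroup `R ≠ 1`
  have hMn : M.Normal := by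
    rw [← Subgroup.normalizer_eq_top_iff, eq_top_iff]
    intro g _
    by_contra hg
    exact hx1 (hM.ti g hg x (hPM (hRP hxR)) (hPM (hRP (hRn.conj_mem x hxR g))))
  -- `P` is the Sylow `p`-subgroup of the nilpotent normal subgroup `M`
  haveI : Group.IsNilpotent M := hM.nil
  haveI hPMn : ((P.subtype hPM : Sylow p M) : Subgroup M).Normal := inferInstance
  haveI hPMc : ((P.subtype hPM : Sylow p M) : Subgroup M).Characteristic :=
    Sylow.characteristic_of_normal (P.subtype hPM) hPMn
  have hPn : (((P.subtype hPM : Sylow p M) : Subgroup M).map M.subtype).Normal :=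
    ConjAct.normal_of_characteristic_of_normal
  have hPeq : ((P.subtype hPM : Sylow p M) : Subgroup M).map M.subtype = P := by
    rw [Sylow.coe_subtype, Subgroup.map_subgroupOf_eq_of_le hPM]
  rw [hPeq] at hPn
  exact ⟨p, ‹_›, P, hP1, hPn⟩

end Cfsg.Agent.Lib.Helper89.CTI
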