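import Cfsg.Agent.Lib.Helper89.CTI.ASylOf
import Cfsg.Agent.Lib.Helper78.CTI.Blocks

/-!
# Project CTI (S4064, helper31's sheet): module `[A-SYL]` `exists_normal_sylow`, exact statement (helper89)

Glue of `exists_normal_sylow_of` with `[BLOCKS]` (helper78).
-/

set_option autoImplicit false

namespace Cfsg.Agent.Lib.Helper31.CTI

open Cfsg

variable {G : Type*} [Group G]

/-- [A-SYL] A nontrivial nilpotent normal subgroup forces a nontrivial normal Sylow subgroup.
(BLOCKS: `O_p(G) ≤ P ≤ M`, `M` TI ⇒ `M` normal ⇒ `P` char `M`.) -/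
theorem exists_normal_sylow [Finite G] (hG : IsCTI G) (K : Subgroup G) (hKn : K.Normal)
    (hKnil : Group.IsNilpotent K) (hK : K ≠ ⊥) :
    ∃ (p : ℕ) (_ : Fact p.Prime) (P : Sylow p G), (P : Subgroup G) ≠ ⊥ ∧ (P : Subgroup G).Normal :=
  Cfsg.Agent.Lib.Helper89.CTI.exists_normal_sylow_of (fun p _ P hP => exists_niceBlock hG p P hP) K hKn hKnil hK

end Cfsg.Agent.Lib.Helper31.CTI
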